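import Mathlib

/-!
Nilpotent subgroups: elements of coprime order commute; the `p`-elements form a normal subgroup;
criteria for the non-existence of a nilpotent minimal cover.
-/

set_option autoImplicit false

namespace Cfsg.Agent.Perm

/-- In a finite nilpotent group elements of coprime orders commute. -/
theorem commute_of_coprime_of_isNilpotent {G : Type*} [Group G] [Finite G] [Group.IsNilpotent G]
    {a b : G} (h : (orderOf a).Coprime (orderOf b)) : Commute a b := by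
  obtain ⟨e⟩ : Nonempty ((∀ p : (Nat.card G).primeFactors, ∀ P : Sylow p G,
      (↑P : Subgroup G)) ≃* G) := (Group.isNilpotent_of_finite_tfae.out 0 4 rfl rfl).mp ‹_›
  obtain ⟨a, rfl⟩ := e.surjective a
  obtain ⟨b, rfl⟩ := e.surjective b
  rw [MulEquiv.orderOf_eq, MulEquiv.orderOf_eq] at h
  apply Commute.map
  funext p P
  have : Fact (p : ℕ).Prime := ⟨Nat.prime_of_mem_primeFactors p.2⟩
  show a p P * b p P = b p P * a p P
  have ha : orderOf (a p P) ∣ orderOf a := by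
    rw [orderOf_dvd_iff_pow_eq_one]
    exact congrFun (congrFun (pow_orderOf_eq_one a) p) P
  have hb : orderOf (b p P) ∣ orderOf b := by
    rw [orderOf_dvd_iff_pow_eq_one]
    exact congrFun (congrFun (pow_orderOf_eq_one b) p) P
  by_cases h1 : a p P = 1
  · simp [h1]
  by_cases h2 : b p P = 1
  · simp [h2]
  exfalso
  have h3 := Nat.dvd_gcd ((P.isPGroup'.dvd_orderOf h1).trans ha)
    ((P.isPGroup'.dvd_orderOf h2).trans hb)
  rw [h] at h3
  exact this.out.one_lt.ne' (Nat.dvd_one.1 h3)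

/-- In a finite nilpotent subgroup elements of coprime orders commute. -/
theorem commute_of_coprime_of_mem {G : Type*} [Group G] [Finite G] {N : Subgroup G}
    (hN : Group.IsNilpotent N) {a b : G} (ha : a ∈ N) (hb : b ∈ N)
    (h : (orderOf a).Coprime (orderOf b)) : Commute a b := by
  have := commute_of_coprime_of_isNilpotent (G := N) (a := ⟨a, ha⟩) (b := ⟨b, hb⟩)
    (by simpa [← Subgroup.orderOf_coe] using h)
  exact congrArg Subtype.val this

/-- The `p`-elements of a finite nilpotent subgroup `N` form a `p`-subgroup normalized by `N`. -/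
theorem exists_pSubgroup_of_isNilpotent {G : Type*} [Group G] [Finite G] {N : Subgroup G}
    (hN : Group.IsNilpotent N) (p : ℕ) [Fact p.Prime] :
    ∃ P : Subgroup G, P ≤ N ∧ IsPGroup p P ∧ (∀ n ∈ N, ∀ x ∈ P, n * x * n⁻¹ ∈ P) ∧
      ∀ u ∈ N, (∃ k, u ^ p ^ k = 1) → u ∈ P := by
  obtain ⟨S⟩ : Nonempty (Sylow p N) := inferInstance
  have hS : (S : Subgroup N).Normal := inferInstance
  refine ⟨(S : Subgroup N).map N.subtype, Subgroup.map_subtype_le _, S.isPGroup'.map _, ?_, ?_⟩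
  · rintro n hn _ ⟨x, hx, rfl⟩
    exact ⟨_, hS.conj_mem x hx ⟨n, hn⟩, rfl⟩
  · rintro u hu ⟨k, hk⟩
    have h1 : IsPGroup p (Subgroup.zpowers (⟨u, hu⟩ : N)) := by
      apply IsPGroup.of_card_dvd_pow (n := k)
      rw [Nat.card_zpowers, orderOf_dvd_iff_pow_eq_one]
      exact Subtype.ext hk
    obtain ⟨S', hS'⟩ := h1.exists_le_sylow
    have := Sylow.unique_of_normal S hS
    have h2 : S' = S := Subsingleton.elim _ _
    subst h2
    exact ⟨⟨u, hu⟩, hS' (Subgroup.mem_zpowers _), rfl⟩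

/-- If `u` is a `p`-element with a unique fixed point `x` on a finite set of size prime to `p`,
then every nilpotent subgroup containing `u` fixes `x`. -/
theorem le_stabilizer_of_isNilpotent {G X : Type*} [Group G] [Finite G] [Finite X] [MulAction G X]
    {p : ℕ} [Fact p.Prime] (hX : ¬ p ∣ Nat.card X) {u : G} (hu : ∃ k, u ^ p ^ k = 1) {x : X}
    (hx : ∀ y, u • y = y → y = x) {N : Subgroup G} (hN : Group.IsNilpotent N) (huN : u ∈ N) :
    N ≤ MulAction.stabilizer G x := by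
  obtain ⟨P, -, hP, hnorm, hmem⟩ := exists_pSubgroup_of_isNilpotent hN p
  obtain ⟨y, hy⟩ := hP.nonempty_fixed_point_of_prime_not_dvd_card X hX
  have huP := hmem u huN hu
  obtain rfl : y = x := hx y (hy ⟨u, huP⟩)
  intro n hn
  apply hx
  have := hy ⟨n⁻¹ * u * n⁻¹⁻¹, hnorm _ (N.inv_mem hn) u huP⟩
  simp only [inv_inv, Subgroup.mk_smul, mul_smul] at this
  rwa [inv_smul_eq_iff] at this

/-- A finite nilpotent group containing the `p`-element `u` is generated by its `p`-elements and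
the centralizer of `u`. -/
theorem le_of_isNilpotent {G : Type*} [Group G] [Finite G] {p : ℕ} [Fact p.Prime] {u : G}
    (hu : ∃ k, u ^ p ^ k = 1) {N : Subgroup G} (hN : Group.IsNilpotent N) (huN : u ∈ N)
    {H : Subgroup G} (h1 : ∀ n ∈ N, (∃ k, n ^ p ^ k = 1) → n ∈ H)
    (h2 : ∀ n ∈ N, Commute n u → n ∈ H) : N ≤ H := by
  have hp : p.Prime := Fact.out
  intro n hn
  obtain ⟨a, m, hm, ham⟩ := Nat.exists_eq_pow_mul_and_not_dvd (orderOf_pos n).ne' p hp.ne_one
  have hcop : (p ^ a).Coprime m := Nat.Coprime.pow_left _ ((Nat.Prime.coprime_iff_not_dvd hp).2 hm)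
  have h3 : n ^ m ∈ H := h1 _ (N.pow_mem hn _)
      ⟨a, by rw [← pow_mul, mul_comm, ← ham, pow_orderOf_eq_one]⟩
  have h4 : n ^ p ^ a ∈ H := by
    apply h2 _ (N.pow_mem hn _)
    apply commute_of_coprime_of_mem hN (N.pow_mem hn _) huN
    obtain ⟨k, hk⟩ := hu
    refine Nat.Coprime.coprime_dvd_right (orderOf_dvd_iff_pow_eq_one.2 hk) ?_
    refine Nat.Coprime.coprime_dvd_left (k := m) (orderOf_dvd_iff_pow_eq_one.2 ?_) ?_
    · rw [← pow_mul, ← ham, pow_orderOf_eq_one]
    · exact (Nat.Coprime.pow_left _ ((Nat.Prime.coprime_iff_not_dvd hp).2 hm)).symm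
  have h5 := Nat.gcd_eq_gcd_ab (p ^ a) m
  rw [hcop] at h5
  have h6 : n = (n ^ p ^ a) ^ (Nat.gcdA (p ^ a) m) * (n ^ m) ^ (Nat.gcdB (p ^ a) m) := by
    rw [← zpow_natCast, ← zpow_natCast, ← zpow_mul, ← zpow_mul, ← zpow_add, ← h5]
    simp
  rw [h6]
  exact Subgroup.mul_mem _ (Subgroup.zpow_mem _ h4 _) (Subgroup.zpow_mem _ h3 _)

/-- If the fixed points of the `p`-element `t` lie in a set `Y` with fewer than `p` elements and
`|X| ≡ |Y| (mod p)`, then a nilpotent subgroup containing `t` fixes each point of `Y` that is fixed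
by the centralizer of `t`. -/
theorem le_stabilizer_of_isNilpotent' {G X : Type*} [Group G] [Finite G] [Finite X]
    [MulAction G X] {p : ℕ} [Fact p.Prime] {t : G} (ht : ∃ k, t ^ p ^ k = 1) (Y : Finset X)
    (hY : ∀ x, t • x = x → x ∈ Y) (hX : Nat.card X ≡ Y.card [MOD p]) (hlt : Y.card < p)
    {y : X} (hy : y ∈ Y) (hC : ∀ g : G, Commute g t → g • y = y)
    {N : Subgroup G} (hN : Group.IsNilpotent N) (htN : t ∈ N) :
    N ≤ MulAction.stabilizer G y := by
  obtain ⟨P, -, hP, -, hmem⟩ := exists_pSubgroup_of_isNilpotent hN p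
  have h1 := hP.card_modEq_card_fixedPoints X
  have hsub : MulAction.fixedPoints P X ⊆ (Y : Set X) := fun x hx =>
    hY x (hx ⟨t, hmem t htN ht⟩)
  have h2 : (MulAction.fixedPoints P X).ncard ≤ Y.card := by
    rw [← Set.ncard_coe_finset]
    exact Set.ncard_le_ncard hsub
  have h3 : (MulAction.fixedPoints P X).ncard = Y.card := by
    have := h1.symm.trans hX
    rw [Nat.card_coe_set_eq] at this
    exact Nat.ModEq.eq_of_lt_of_lt this (h2.trans_lt hlt) hlt
  have h4 : MulAction.fixedPoints P X = Y :=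
    Set.eq_of_subset_of_ncard_le hsub (by rw [h3, Set.ncard_coe_finset])
  refine le_of_isNilpotent ht hN htN (fun n hn h => ?_) (fun n _ h => hC n h)
  have : y ∈ MulAction.fixedPoints P X := by rw [h4]; exact hy
  exact this ⟨n, hmem n hn h⟩

/-- If an element `u` has prime order `p` with `p² ∤ |G|` then every nilpotent subgroup containing
`u` centralizes `u`. -/
theorem le_centralizer_of_isNilpotent {G : Type*} [Group G] [Finite G] {p : ℕ} [Fact p.Prime]
    (hG : ¬ p ^ 2 ∣ Nat.card G) {u : G} (hu : orderOf u = p) {N : Subgroup G}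
    (hN : Group.IsNilpotent N) (huN : u ∈ N) : N ≤ Subgroup.centralizer {u} := by
  have hp : p.Prime := Fact.out
  obtain ⟨P, hPN, hP, hnorm, hmem⟩ := exists_pSubgroup_of_isNilpotent hN p
  have huP := hmem u huN ⟨1, by rw [pow_one, ← hu, pow_orderOf_eq_one]⟩
  obtain ⟨k, hk⟩ := IsPGroup.iff_card.1 hP
  have hk1 : k ≤ 1 := by
    by_contra h
    exact hG ((pow_dvd_pow p (by omega)).trans (hk ▸ Subgroup.card_subgroup_dvd_card P))
  have hPu : Subgroup.zpowers u = P := by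
    apply Subgroup.eq_of_le_of_card_ge (Subgroup.zpowers_le.2 huP)
    rw [Nat.card_zpowers, hu, hk]
    exact (Nat.pow_le_pow_right hp.pos hk1).trans (pow_one p).le
  intro n hn
  -- split `n` into its `p`-part and its `p'`-part
  obtain ⟨a, m, hm, ham⟩ := Nat.exists_eq_pow_mul_and_not_dvd (orderOf_pos n).ne' p hp.ne_one
  have hcop : (p ^ a).Coprime m := Nat.Coprime.pow_left _ ((Nat.Prime.coprime_iff_not_dvd hp).2 hm)
  have h1 : n ^ m ∈ Subgroup.centralizer {u} := by
    have : n ^ m ∈ P := hmem _ (N.pow_mem hn _)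
      ⟨a, by rw [← pow_mul, mul_comm, ← ham, pow_orderOf_eq_one]⟩
    rw [← hPu] at this
    obtain ⟨i, hi⟩ := this
    rw [← hi, Subgroup.mem_centralizer_singleton_iff]
    exact (Commute.zpow_left rfl i)
  have h2 : n ^ p ^ a ∈ Subgroup.centralizer {u} := by
    rw [Subgroup.mem_centralizer_singleton_iff]
    apply commute_of_coprime_of_mem hN (N.pow_mem hn _) huN
    rw [hu]
    apply Nat.Coprime.symm
    rw [Nat.Prime.coprime_iff_not_dvd hp]
    intro h
    apply hm
    refine h.trans (orderOf_dvd_iff_pow_eq_one.2 ?_)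
    rw [← pow_mul, ← ham, pow_orderOf_eq_one]
  have h3 := Nat.gcd_eq_gcd_ab (p ^ a) m
  rw [hcop] at h3
  have h4 : n = (n ^ p ^ a) ^ (Nat.gcdA (p ^ a) m) * (n ^ m) ^ (Nat.gcdB (p ^ a) m) := by
    rw [← zpow_natCast, ← zpow_natCast, ← zpow_mul, ← zpow_mul, ← zpow_add, ← h3]
    simp
  rw [h4]
  exact Subgroup.mul_mem _ (Subgroup.zpow_mem _ h2 _) (Subgroup.zpow_mem _ h1 _)

/-- Two elements which lie in no common nilpotent subgroup, while all nilpotent subgroups
containing one of them lie in a fixed proper subgroup, exclude a nilpotent minimal cover. -/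
theorem no_nilpotent_minimal_cover {G : Type*} [Group G] (u v : G) (M : Subgroup G) (hM : M ≠ ⊤)
    (hu : ∀ N : Subgroup G, Group.IsNilpotent N → u ∈ N → N ≤ M)
    (hv : ∀ N : Subgroup G, Group.IsNilpotent N → v ∈ N → N ≤ M)
    (huv : ∀ N : Subgroup G, Group.IsNilpotent N → u ∈ N → v ∈ N → False) :
    ¬ ∃ 𝓐 : Finset (Subgroup G), ((∀ A ∈ 𝓐, A ≠ ⊤) ∧ (∀ g : G, ∃ A ∈ 𝓐, g ∈ A)) ∧
      (∀ 𝓑 : Finset (Subgroup G), (∀ A ∈ 𝓑, A ≠ ⊤) ∧ (∀ g : G, ∃ A ∈ 𝓑, g ∈ A) →
        𝓐.card ≤ 𝓑.card) ∧ (∀ A ∈ 𝓐, Group.IsNilpotent ↥A) := by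
  classical
  rintro ⟨𝓐, ⟨h1, h2⟩, h3, h4⟩
  obtain ⟨A, hA, huA⟩ := h2 u
  obtain ⟨B, hB, hvB⟩ := h2 v
  have hAB : A ≠ B := by
    rintro rfl
    exact huv A (h4 A hA) huA hvB
  have h5 := h3 (insert M ((𝓐.erase A).erase B)) ⟨?_, ?_⟩
  · have h6 := Finset.card_insert_le M ((𝓐.erase A).erase B)
    rw [Finset.card_erase_of_mem (Finset.mem_erase.2 ⟨hAB.symm, hB⟩),
      Finset.card_erase_of_mem hA] at h6
    have h7 : 2 ≤ 𝓐.card := by
      rw [← Finset.card_pair hAB]
      apply Finset.card_le_card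
      intro C hC
      simp only [Finset.mem_insert, Finset.mem_singleton] at hC
      rcases hC with rfl | rfl <;> assumption
    omega
  · intro C hC
    rcases Finset.mem_insert.1 hC with rfl | hC
    · exact hM
    · exact h1 C (Finset.mem_of_mem_erase (Finset.mem_of_mem_erase hC))
  · intro g
    obtain ⟨C, hC, hgC⟩ := h2 g
    by_cases hCA : C = A
    · exact ⟨M, Finset.mem_insert_self _ _, hu A (h4 A hA) huA (hCA ▸ hgC)⟩
    by_cases hCB : C = B
    · exact ⟨M, Finset.mem_insert_self _ _, hv B (h4 B hB) hvB (hCB ▸ hgC)⟩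
    exact ⟨C, Finset.mem_insert_of_mem (Finset.mem_erase.2 ⟨hCB, Finset.mem_erase.2 ⟨hCA, hC⟩⟩),
      hgC⟩

/-- Version for two non-commuting elements of prime order `p`, `p² ∤ |G|`. -/
theorem no_nilpotent_minimal_cover_of_prime {G : Type*} [Group G] [Finite G] {p : ℕ}
    [Fact p.Prime] (hG : ¬ p ^ 2 ∣ Nat.card G) (u v : G) (hu : orderOf u = p) (hv : orderOf v = p)
    (huv : u * v ≠ v * u) (M : Subgroup G) (hM : M ≠ ⊤)
    (huM : Subgroup.centralizer {u} ≤ M) (hvM : Subgroup.centralizer {v} ≤ M) :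
    ¬ ∃ 𝓐 : Finset (Subgroup G), ((∀ A ∈ 𝓐, A ≠ ⊤) ∧ (∀ g : G, ∃ A ∈ 𝓐, g ∈ A)) ∧
      (∀ 𝓑 : Finset (Subgroup G), (∀ A ∈ 𝓑, A ≠ ⊤) ∧ (∀ g : G, ∃ A ∈ 𝓑, g ∈ A) →
        𝓐.card ≤ 𝓑.card) ∧ (∀ A ∈ 𝓐, Group.IsNilpotent ↥A) :=
  no_nilpotent_minimal_cover u v M hM
    (fun _ hN h => (le_centralizer_of_isNilpotent hG hu hN h).trans huM)
    (fun _ hN h => (le_centralizer_of_isNilpotent hG hv hN h).trans hvM)
    (fun _ hN h h' => huv
      (Subgroup.mem_centralizer_singleton_iff.1 (le_centralizer_of_isNilpotent hG hv hN h' h)))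

end Cfsg.Agent.Perm
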